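import Cfsg.Agent.Lib.Fi23Sylow.Pts
import Cfsg.Prelude.Def_Transfer

/-!
The base transpositions generate an elementary abelian group of order `2 ^ 11`, permuted by the seven words.
-/

set_option autoImplicit false

namespace CfsgLib.Fi23Sylow

open CfsgLib.CosetEnum
open CfsgLib.CosetEnum.Fi23 (table π)

local notation "G" => Cfsg.Spor.Fi23

theorem all_range {n : ℕ} {P : ℕ → Bool} (h : (List.range n).all P = true) {i : ℕ} (hi : i < n) : P i = true :=
  List.all_eq_true.mp h i (List.mem_range.mpr hi)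

theorem getD_good {L : List (List ℕ)} (h : L.all good = true) (i : ℕ) : ∀ x ∈ L.getD i [], x < 16 := by
  rcases Nat.lt_or_ge i L.length with hi | hi
  · rw [List.getD_eq_getElem _ _ hi]
    exact good_iff.mp (List.all_eq_true.mp h _ (List.getElem_mem hi))
  · rw [List.getD_eq_default _ _ hi]; simp

theorem sw_good (i : ℕ) : ∀ x ∈ sw i, x < 16 :=
  getD_good (Bool.and_eq_true_iff.mp words_good).1 i

theorem vw_good (i : ℕ) : ∀ x ∈ vw i, x < 16 :=
  getD_good (Bool.and_eq_true_iff.mp words_good).2 i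

theorem bw_good (i : ℕ) : ∀ x ∈ bw i, x < 16 :=
  good_append (sw_good i) (good_append (by simp) (good_reverse (sw_good i)))

theorem psiW_good : ∀ w n, ∀ x ∈ psiW w n, x < 16
  | 0, _ => by simp [psiW]
  | w + 1, n => by
    refine good_append (psiW_good w n) ?_
    split
    · exact bw_good _
    · simp

theorem uW_good : ∀ j k, ∀ x ∈ uW j k, x < 16
  | 0, _ => by simp [uW]
  | j + 1, k => by
    refine good_append (uW_good j k) ?_
    split
    · exact vw_good _
    · simp

theorem pt_lt {i : ℕ} (hi : i < 23) : pt i < 31671 :=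
  Nat.le_of_ble_eq_true (Bool.and_eq_true_iff.mp (all_range base_pts hi)).1

/-- A base point as an element of `Fin 31671`. -/
def ptF (i : ℕ) (hi : i < 23) : Fin 31671 := ⟨pt i, pt_lt hi⟩

theorem pt_inj {i j : ℕ} (hi : i < 23) (hj : j < 23) (h : pt i = pt j) : i = j := by
  have h1 := all_range (all_range pts_inj hi) hj
  rw [Bool.or_eq_true] at h1
  rcases h1 with h1 | h1
  · exact Nat.eq_of_beq_eq_true h1
  · rw [h] at h1; simp at h1

/-- A base transposition. -/
noncomputable def b (i : ℕ) : G := val (bw i)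

theorem isPt_b {i : ℕ} (hi : i < 23) : IsPt (b i) (ptF i hi) := by
  have h := (isPt_gen 0 (by omega)).conj (val (sw i))
  rw [show val (sw i) * CfsgLib.CosetEnum.Fi23.g 0 * (val (sw i))⁻¹ = b i by
    rw [b, bw, val_append, val_append, val_single, val_reverse _ (sw_good i), mul_assoc]] at h
  rwa [show π (val (sw i)) ⟨gpL.getD 0 0, gp_lt 0 (by omega)⟩ = ptF i hi from Fin.ext (by
    rw [pi_val _ (sw_good i)]
    exact Nat.eq_of_beq_eq_true (Bool.and_eq_true_iff.mp (all_range base_pts hi)).2)] at h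

theorem b_sq {i : ℕ} (hi : i < 23) : b i * b i = 1 := (isPt_b hi).sq

theorem b_fix {i j : ℕ} (hi : i < 23) (hj : j < 23) : π (b i) (ptF j hj) = ptF j hj :=
  Fin.ext (by rw [b, pi_val _ (bw_good i)]; exact Nat.eq_of_beq_eq_true (all_range (all_range base_fix hi) hj))

theorem b_comm {i j : ℕ} (hi : i < 23) (hj : j < 23) : b i * b j = b j * b i :=
  (isPt_b hj).conj_fix (b_fix hi hj)

theorem conj_b {w : G} {i m : ℕ} (hi : i < 23) (hm : m < 23) (h : π w (ptF i hi) = ptF m hm) :
    w * b i * w⁻¹ = b m := by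
  have h1 := (isPt_b hi).conj w
  rw [h] at h1
  exact h1.unique (isPt_b hm)

theorem bas_lt23 {j : ℕ} (hj : j < 11) : bas j < 23 :=
  Nat.le_of_ble_eq_true (Bool.and_eq_true_iff.mp (all_range bas_lt hj)).1

theorem code_bas {j : ℕ} (hj : j < 11) : code (bas j) = 1 <<< j :=
  Nat.eq_of_beq_eq_true (Bool.and_eq_true_iff.mp (all_range bas_lt hj)).2

theorem code_lt {i : ℕ} (hi : i < 23) : code i < 2 ^ 11 :=
  Nat.le_of_ble_eq_true (Bool.and_eq_true_iff.mp (all_range base_code hi)).1

/-- The element with coordinates `n`. -/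
noncomputable def psi (n : ℕ) : G := val (psiW 11 n)

theorem b_eq_psi {i : ℕ} (hi : i < 23) : b i = psi (code i) :=
  val_eq_of_agree (bw_good i) (psiW_good _ _) (Bool.and_eq_true_iff.mp (all_range base_code hi)).2

theorem commute_psiW {i : ℕ} (hi : i < 23) : ∀ w, w ≤ 11 → ∀ n, Commute (b i) (val (psiW w n))
  | 0, _, n => by rw [psiW, val_nil]; exact Commute.one_right _
  | w + 1, hw, n => by
    rw [psiW, val_append]
    refine (commute_psiW hi w (by omega) n).mul_right ?_
    split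
    · exact b_comm hi (bas_lt23 (by omega))
    · rw [val_nil]; exact Commute.one_right _

theorem val_ite (w n : ℕ) :
    val (if n.testBit w then bw (bas w) else []) = if n.testBit w then b (bas w) else 1 := by
  split
  · rfl
  · exact val_nil

theorem psiW_xor : ∀ w, w ≤ 11 → ∀ m n, val (psiW w (m ^^^ n)) = val (psiW w m) * val (psiW w n)
  | 0, _, m, n => by simp [psiW, val_nil]
  | w + 1, hw, m, n => by
    have hb : bas w < 23 := bas_lt23 (by omega)
    have hc : Commute (b (bas w)) (val (psiW w n)) := commute_psiW hb w (by omega) n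
    rw [psiW, psiW, psiW, val_append, val_append, val_append, psiW_xor w (by omega), val_ite, val_ite, val_ite,
      Nat.testBit_xor]
    cases m.testBit w <;> cases n.testBit w <;> simp only [Bool.xor_false, Bool.xor_true, Bool.not_true,
      Bool.not_false, if_true, mul_one, Bool.false_eq_true, if_neg, not_false_eq_true]
    · group
    · rw [mul_assoc _ (b (bas w)), hc.eq]; group
    · rw [mul_assoc _ (b (bas w)), ← mul_assoc (b (bas w)), hc.eq, mul_assoc _ (b (bas w)), b_sq hb, mul_one]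

theorem psi_xor (m n : ℕ) : psi (m ^^^ n) = psi m * psi n := psiW_xor 11 le_rfl m n

theorem psi_zero : psi 0 = 1 := by
  have h := psi_xor 0 0
  rw [Nat.xor_self] at h
  simpa using h

theorem psi_inv (n : ℕ) : (psi n)⁻¹ = psi n := by
  refine inv_eq_iff_mul_eq_one.mpr ?_
  rw [← psi_xor, Nat.xor_self, psi_zero]

theorem psi_fix (n : ℕ) {j : ℕ} (hj : j < 23) : π (psi n) (ptF j hj) = ptF j hj := by
  suffices ∀ w, w ≤ 11 → π (val (psiW w n)) (ptF j hj) = ptF j hj from this 11 le_rfl
  intro w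
  induction w with
  | zero => intro _; rw [psiW, val_nil, map_one, Equiv.Perm.one_apply]
  | succ w ih =>
    intro hw
    rw [psiW, val_append, val_ite, map_mul, Equiv.Perm.mul_apply]
    split
    · rw [b_fix (bas_lt23 (by omega)) hj, ih (by omega)]
    · rw [map_one, Equiv.Perm.one_apply, ih (by omega)]

theorem comb_lt (f : ℕ → ℕ) : ∀ w, (∀ t < w, f t < 2 ^ 11) → ∀ n, comb f w n < 2 ^ 11
  | 0, _, _ => by simp [comb]
  | w + 1, h, n => by
    rw [comb]
    refine Nat.xor_lt_two_pow (comb_lt f w (fun t ht => h t (by omega)) n) ?_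
    split
    · exact h w (by omega)
    · norm_num

theorem comb_xor (f : ℕ → ℕ) : ∀ w m n, comb f w (m ^^^ n) = comb f w m ^^^ comb f w n
  | 0, _, _ => by simp [comb]
  | w + 1, m, n => by
    simp only [comb, comb_xor f w m n, Nat.testBit_xor]
    cases m.testBit w <;> cases n.testBit w <;>
      simp [Nat.xor_assoc, Nat.xor_comm, Nat.xor_left_comm]

theorem psi_comb (f : ℕ → ℕ) : ∀ w n, psi (comb f (w + 1) n) = psi (comb f w n) * (if n.testBit w then psi (f w) else 1) := by
  intro w n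
  rw [comb, psi_xor]
  congr 1
  split
  · rfl
  · exact psi_zero

/-- Conjugation by an element permuting the base acts linearly on coordinates. -/
theorem conj_psi {w : G} {p : ℕ → ℕ} (hp : ∀ i < 23, p i < 23)
    (h : ∀ i (hi : i < 23), π w (ptF i hi) = ptF (p i) (hp i hi)) (n : ℕ) :
    w * psi n * w⁻¹ = psi (comb (fun j => code (p (bas j))) 11 n) := by
  suffices ∀ r, r ≤ 11 → w * val (psiW r n) * w⁻¹ = psi (comb (fun j => code (p (bas j))) r n) from this 11 le_rfl
  intro r
  induction r with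
  | zero => intro _; rw [psiW, comb, val_nil, psi_zero]; group
  | succ r ih =>
    intro hr
    have hb : bas r < 23 := bas_lt23 (by omega)
    rw [psiW, val_append, val_ite, psi_comb, ← ih (by omega)]
    split
    · rw [← b_eq_psi (hp _ hb), ← conj_b hb (hp _ hb) (h _ hb)]; group
    · group

theorem psiW_split (n : ℕ) : psi n = psi (n % 32) * psi (n / 32 * 32) := by
  rw [← psi_xor]
  congr 1
  have h := Nat.two_pow_add_eq_or_of_lt (i := 5) (b := n % 32) (by omega) (n / 32)
  have h0 : n % 32 ^^^ n / 32 * 32 = n % 32 ||| n / 32 * 32 := by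
    apply Nat.eq_of_testBit_eq
    intro i
    rw [Nat.testBit_xor, Nat.testBit_or]
    rw [show n % 32 = n % 2 ^ 5 from rfl, show n / 32 * 32 = 2 ^ 5 * (n / 32) by ring, Nat.testBit_mod_two_pow,
      Nat.testBit_two_pow_mul]
    rcases Nat.lt_or_ge i 5 with hi | hi
    · simp [hi, Nat.not_le.mpr hi]
    · simp [hi, Nat.not_lt.mpr hi]
  rw [h0, show n / 32 * 32 = 2 ^ 5 * (n / 32) by ring, Nat.lor_comm, ← h]
  omega

theorem sep_lt : sepL.getD 0 0 < 31671 ∧ sepL.getD 1 0 < 31671 := by decide +kernel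

theorem app_psi_congr {m n : ℕ} (h : psi m = psi n) (q : Fin 31671) : app (psiW 11 m) q = app (psiW 11 n) q := by
  have hv : val (psiW 11 m) = val (psiW 11 n) := h
  rw [← pi_val _ (psiW_good 11 m) q, ← pi_val _ (psiW_good 11 n) q, hv]

theorem sepKey_eq {m n : ℕ} (h : psi m = psi n) : sepKey m = sepKey n := by
  have h0 : app (psiW 11 m) (sepL.getD 0 0) = app (psiW 11 n) (sepL.getD 0 0) := app_psi_congr h ⟨_, sep_lt.1⟩
  have h1 : app (psiW 11 m) (sepL.getD 1 0) = app (psiW 11 n) (sepL.getD 1 0) := app_psi_congr h ⟨_, sep_lt.2⟩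
  unfold sepKey
  rw [h0, h1]

theorem psi_eq_one {n : ℕ} (hn : n < 2 ^ 11) (h : psi n = 1) : n = 0 := by
  have h1 : psi (n % 32) = psi (n / 32 * 32) := by
    rw [psiW_split] at h
    rw [mul_eq_one_iff_eq_inv.mp h, psi_inv]
  have h2 := all_range (all_range sep_ok (Nat.mod_lt n (by omega : 32 > 0))) (show n / 32 < 64 by omega)
  rw [Bool.or_eq_true, Bool.and_eq_true] at h2
  rcases h2 with ⟨h2, h3⟩ | h2
  · have := Nat.eq_of_beq_eq_true h2; have := Nat.eq_of_beq_eq_true h3; omega
  · exfalso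
    have hl : sepLo.getD (n % 32) 0 = sepKey (n % 32) := by
      rw [List.getD_eq_getElem _ _ (by simp [sepLo]; omega)]; simp [sepLo]
    have hh : sepHi.getD (n / 32) 0 = sepKey (n / 32 * 32) := by
      rw [List.getD_eq_getElem _ _ (by simp [sepHi]; omega)]; simp [sepHi]
    rw [hl, hh, sepKey_eq h1] at h2
    simp at h2

theorem psi_inj {m n : ℕ} (hm : m < 2 ^ 11) (hn : n < 2 ^ 11) (h : psi m = psi n) : m = n := by
  have h1 : psi (m ^^^ n) = 1 := by rw [psi_xor, h, ← psi_xor, Nat.xor_self, psi_zero]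
  exact Nat.xor_eq_zero_iff.mp (psi_eq_one (Nat.xor_lt_two_pow hm hn) h1)

/-- The elementary abelian subgroup of order `2 ^ 11`. -/
def E11 : Subgroup G where
  carrier := {x | ∃ n, n < 2 ^ 11 ∧ psi n = x}
  mul_mem' := by
    rintro _ _ ⟨m, hm, rfl⟩ ⟨n, hn, rfl⟩
    exact ⟨m ^^^ n, Nat.xor_lt_two_pow hm hn, psi_xor m n⟩
  one_mem' := ⟨0, by norm_num, psi_zero⟩
  inv_mem' := by
    rintro _ ⟨n, hn, rfl⟩
    exact ⟨n, hn, (psi_inv n).symm⟩

theorem psi_mem {n : ℕ} (hn : n < 2 ^ 11) : psi n ∈ E11 := ⟨n, hn, rfl⟩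

theorem card_E11 : Nat.card E11 = 2 ^ 11 := by
  have e : Function.Bijective (fun n : Fin (2 ^ 11) => (⟨psi n, psi_mem n.2⟩ : E11)) := by
    refine ⟨fun m n h => Fin.ext (psi_inj m.2 n.2 (congrArg Subtype.val h)), ?_⟩
    rintro ⟨_, n, hn, rfl⟩
    exact ⟨⟨n, hn⟩, rfl⟩
  rw [← Nat.card_congr (Equiv.ofBijective _ e), Nat.card_fin]

theorem E11_elementary : Cfsg.IsElementaryAbelian 2 E11 := by
  refine ⟨⟨⟨?_⟩⟩, ?_⟩
  · rintro ⟨_, m, hm, rfl⟩ ⟨_, n, hn, rfl⟩
    apply Subtype.ext
    show psi m * psi n = psi n * psi m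
    rw [← psi_xor, ← psi_xor, Nat.xor_comm]
  · rintro _ ⟨n, hn, rfl⟩
    rw [pow_two, ← psi_xor, Nat.xor_self, psi_zero]

end CfsgLib.Fi23Sylow
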