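import Cfsg.Agent.Lib.Fi23Sylow.Sylow

/-!
Elementary abelian subgroups of the Sylow 2-subgroup have order at most `2 ^ 11`, with one exception of that order.
-/

set_option autoImplicit false

namespace CfsgLib.Fi23Sylow

open CfsgLib.CosetEnum
open CfsgLib.CosetEnum.Fi23 (table π)

local notation "G" => Cfsg.Spor.Fi23

theorem comb_unit_lt {ps : List ℕ} (h : (ps.all fun p => Nat.blt p 11) = true) (x : ℕ) :
    comb (fun t => 1 <<< ps.getD t 0) ps.length x < 2 ^ 11 := by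
  refine comb_lt _ _ (fun t ht => ?_) x
  rw [List.getD_eq_getElem _ _ ht, Nat.one_shiftLeft]
  exact Nat.pow_lt_pow_right (by omega) (Nat.le_of_ble_eq_true (List.all_eq_true.mp h _ (List.getElem_mem ht)))

theorem fixed_card_le {ks ps : List ℕ} (h : maskB ks ps = true) (F : Finset ℕ) (hlt : ∀ m ∈ F, m < 2 ^ 11)
    (hx : ∀ m ∈ F, ∀ n ∈ F, m ^^^ n ∈ F) (hfix : ∀ m ∈ F, ∀ k ∈ ks, act k m = m) :
    F.card * 2 ^ ps.length ≤ 2 ^ 11 := by
  rw [maskB, Bool.and_eq_true] at h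
  obtain ⟨hp, hm⟩ := h
  set c := comb (fun t => 1 <<< ps.getD t 0) ps.length with hc
  have key : ∀ p ∈ F ×ˢ Finset.range (2 ^ ps.length), ∀ q ∈ F ×ˢ Finset.range (2 ^ ps.length),
      p.1 ^^^ c p.2 = q.1 ^^^ c q.2 → p = q := by
    rintro ⟨f, x⟩ hfx ⟨f', x'⟩ hfx' h
    simp only [Finset.mem_product, Finset.mem_range] at hfx hfx'
    simp only at h
    have e : f ^^^ f' = c (x ^^^ x') := by
      rw [hc, comb_xor, ← hc]
      calc f ^^^ f' = (f ^^^ c x) ^^^ (c x ^^^ f') := by simp [Nat.xor_assoc, Nat.xor_comm, Nat.xor_left_comm]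
        _ = (f' ^^^ c x') ^^^ (c x ^^^ f') := by rw [h]
        _ = c x ^^^ c x' := by simp [Nat.xor_assoc, Nat.xor_comm, Nat.xor_left_comm]
    have hlt' : x ^^^ x' < 2 ^ ps.length := Nat.xor_lt_two_pow hfx.2 hfx'.2
    have h1 := all_range hm hlt'
    rw [Bool.or_eq_true] at h1
    rcases h1 with h1 | h1
    · have hxx : x = x' := Nat.xor_eq_zero_iff.mp (Nat.eq_of_beq_eq_true h1)
      subst hxx
      rw [Nat.xor_left_inj] at h
      simp [h]
    · exfalso
      obtain ⟨k, hk, hne⟩ := List.any_eq_true.mp h1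
      rw [← e, hfix _ (hx f hfx.1 f' hfx'.1) k hk] at hne
      simp at hne
  have h2 : (F ×ˢ Finset.range (2 ^ ps.length)).card ≤ (Finset.range (2 ^ 11)).card := by
    refine Finset.card_le_card_of_injOn (fun p => p.1 ^^^ c p.2) (fun p hp' => ?_) (fun p hp' q hq h => key p hp' q hq h)
    simp only [Finset.coe_product, Set.mem_prod, Finset.mem_coe, Finset.mem_range] at hp' ⊢
    exact Nat.xor_lt_two_pow (hlt _ hp'.1) (comb_unit_lt hp _)
  rwa [Finset.card_product, Finset.card_range, Finset.card_range] at h2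

theorem act_conj {k : ℕ} (hk : k < 128) (m n : ℕ) : elt k n * psi m * (elt k n)⁻¹ = psi (act k m) :=
  conj_psi (fun _ hi => (perm_data hk hi).1) (fun _ hi => elt_pt n hk hi) m

theorem act_lt {k : ℕ} (hk : k < 128) (m : ℕ) : act k m < 2 ^ 11 :=
  comb_lt _ 11 (fun _ ht => code_lt (perm_data hk (bas_lt23 ht)).1) m

theorem pimg_mul {k l : ℕ} {m n : ℕ} (hk : k < 128) (hl : l < 128) {i : ℕ} (hi : i < 23) :
    ((π (elt k m * elt l n) (ptF i hi) : Fin 31671) : ℕ) = pt (pimg k (pimg l i)) := by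
  rw [map_mul, Equiv.Perm.mul_apply, elt_pt n hl hi, elt_pt m hk (perm_data hl hi).1]
  rfl

theorem pt_beq {a c : ℕ} (ha : a < 23) (hc : c < 23) (h : pt a = pt c) : Nat.beq a c = true := by
  rw [pt_inj ha hc h]; simp

theorem bound (A : Subgroup G) (hA : A ≤ P18) (he : Cfsg.IsElementaryAbelian 2 A) :
    A ≤ E11 ∨ Nat.card A < 2 ^ 11 := by
  classical
  haveI : Finite G := CfsgLib.CosetEnum.Fi23.finite
  have hcomm : ∀ a ∈ A, ∀ c ∈ A, a * c = c * a := fun a ha c hc =>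
    congrArg Subtype.val (he.1.1.1 (⟨a, ha⟩ : A) ⟨c, hc⟩)
  set K := (Finset.range 128).filter fun k => ∃ n < 2 ^ 11, elt k n ∈ A with hK
  set F := (Finset.range (2 ^ 11)).filter fun n => psi n ∈ A with hF
  have memK : ∀ {k}, k ∈ K ↔ k < 128 ∧ ∃ n < 2 ^ 11, elt k n ∈ A := by
    intro k; rw [hK, Finset.mem_filter, Finset.mem_range]
  have memF : ∀ {n}, n ∈ F ↔ n < 2 ^ 11 ∧ psi n ∈ A := by
    intro n; rw [hF, Finset.mem_filter, Finset.mem_range]
  have hFlt : ∀ m ∈ F, m < 2 ^ 11 := fun m hm => (memF.mp hm).1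
  have hFx : ∀ m ∈ F, ∀ n ∈ F, m ^^^ n ∈ F := fun m hm n hn =>
    memF.mpr ⟨Nat.xor_lt_two_pow (hFlt m hm) (hFlt n hn), by rw [psi_xor]; exact mul_mem (memF.mp hm).2 (memF.mp hn).2⟩
  have hfix : ∀ k ∈ K, ∀ m ∈ F, act k m = m := by
    intro k hk m hm
    obtain ⟨hk', n, -, hn'⟩ := memK.mp hk
    refine psi_inj (act_lt hk' m) (hFlt m hm) ?_
    rw [← act_conj hk' m n, hcomm _ hn' _ (memF.mp hm).2, mul_inv_cancel_right]
  have hsq : ∀ k ∈ K, sqB k = true := by
    intro k hk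
    obtain ⟨hk', n, -, hn'⟩ := memK.mp hk
    refine List.all_eq_true.mpr fun i hi => ?_
    have hi' := List.mem_range.mp hi
    refine pt_beq (perm_data hk' (perm_data hk' hi').1).1 hi' ?_
    rw [← pimg_mul (m := n) (n := n) hk' hk' hi', ← pow_two, he.2 _ hn', map_one]
    rfl
  have hco : ∀ k ∈ K, ∀ l ∈ K, commB k l = true := by
    intro k hk l hl
    obtain ⟨hk', m, -, hm'⟩ := memK.mp hk
    obtain ⟨hl', n, -, hn'⟩ := memK.mp hl
    refine List.all_eq_true.mpr fun i hi => ?_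
    have hi' := List.mem_range.mp hi
    refine pt_beq (perm_data hk' (perm_data hl' hi').1).1 (perm_data hl' (perm_data hk' hi').1).1 ?_
    rw [← pimg_mul (m := m) (n := n) hk' hl' hi', ← pimg_mul (m := n) (n := m) hl' hk' hi', hcomm _ hm' _ hn']
  have hinv : ∀ k ∈ K, k ≠ 0 → k ∈ invL ∧ (oneL.getD k []).length = 4 ∧ maskB [k] (oneL.getD k []) = true := by
    intro k hk hk0
    have h := all_range one_ok (memK.mp hk).1
    rw [Bool.or_eq_true, Bool.or_eq_true, Bool.and_eq_true, Bool.and_eq_true] at h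
    rcases h with (h | h) | ⟨⟨h1, h2⟩, h3⟩
    · exact absurd (Nat.eq_of_beq_eq_true h) hk0
    · rw [hsq k hk] at h; exact absurd h (by decide)
    · exact ⟨List.elem_iff.mp h1, Nat.eq_of_beq_eq_true h2, h3⟩
  have hcard : Nat.card A ≤ K.card * F.card := by
    have hex : ∀ x : A, ∃ k < 128, ∃ n < 2 ^ 11, elt k n = (x : G) := fun x => P18_spec.2 x (hA x.2)
    have hrep : ∀ k : K, ∃ n, n < 2 ^ 11 ∧ elt k n ∈ A := fun k => (memK.mp k.2).2
    choose ka hka na hna hxa using hex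
    choose rn hrn hrA using hrep
    have hmemK : ∀ x : A, ka x ∈ K := fun x => memK.mpr ⟨hka x, na x, hna x, by rw [hxa]; exact x.2⟩
    have hmemF : ∀ x : A, na x ^^^ rn ⟨ka x, hmemK x⟩ ∈ F := by
      intro x
      refine memF.mpr ⟨Nat.xor_lt_two_pow (hna x) (hrn _), ?_⟩
      have h1 : elt (ka x) (na x) ∈ A := by rw [hxa]; exact x.2
      have h2 := mul_mem (inv_mem (hrA ⟨ka x, hmemK x⟩)) h1
      have e : (elt (ka x) (rn ⟨ka x, hmemK x⟩))⁻¹ * elt (ka x) (na x) = psi (na x ^^^ rn ⟨ka x, hmemK x⟩) := by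
        rw [elt, elt, Nat.xor_comm, psi_xor, mul_inv_rev, psi_inv]; group
      simp only at h2
      rwa [e] at h2
    have hinj : Function.Injective (fun x : A =>
        ((⟨ka x, hmemK x⟩ : K), (⟨na x ^^^ rn ⟨ka x, hmemK x⟩, hmemF x⟩ : F))) := by
      intro x y h
      simp only [Prod.mk.injEq] at h
      obtain ⟨h1, h2⟩ := h
      rw [Subtype.mk.injEq, h1, Nat.xor_left_inj] at h2
      apply Subtype.ext
      rw [← hxa x, ← hxa y, h2, show ka x = ka y from congrArg Subtype.val h1]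
    have := Nat.card_le_card_of_injective _ hinj
    rwa [Nat.card_prod, Nat.card_eq_finsetCard, Nat.card_eq_finsetCard] at this
  by_cases h0 : ∀ k ∈ K, k = 0
  · left
    intro a ha
    obtain ⟨k, hk, n, hn, rfl⟩ := P18_spec.2 a (hA ha)
    rw [h0 k (memK.mpr ⟨hk, n, hn, ha⟩), elt, show uW 7 0 = [] by decide, val_nil, one_mul]
    exact psi_mem hn
  push Not at h0
  obtain ⟨k, hk, hk0⟩ := h0
  right
  obtain ⟨hki, hlen, hmask⟩ := hinv k hk hk0
  by_cases h1 : ∀ l ∈ K, l = 0 ∨ l = k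
  · have hK2 : K.card ≤ 2 :=
      le_trans (Finset.card_le_card (t := {0, k}) fun l hl => by simpa using h1 l hl) Finset.card_le_two
    have hF2 := fixed_card_le hmask F hFlt hFx (fun m hm l hl => by
      rw [List.mem_singleton.mp hl]; exact hfix k hk m hm)
    rw [hlen] at hF2
    have : K.card * F.card ≤ 2 * F.card := Nat.mul_le_mul_right _ hK2
    omega
  push Not at h1
  obtain ⟨l, hl, hl0, hlk⟩ := h1
  obtain ⟨hli, -, -⟩ := hinv l hl hl0
  obtain ⟨a, hak, c, hcl, hlt⟩ : ∃ a ∈ K, ∃ c ∈ K, ∃ _ : a ∈ invL ∧ c ∈ invL, a < c := by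
    rcases Nat.lt_or_gt_of_ne hlk with h | h
    · exact ⟨l, hl, k, hk, ⟨hli, hki⟩, h⟩
    · exact ⟨k, hk, l, hl, ⟨hki, hli⟩, h⟩
  obtain ⟨⟨hai, hci⟩, hac⟩ := hlt
  have hp := List.all_eq_true.mp (List.all_eq_true.mp pair_complete a hai) c hci
  rw [show Nat.blt a c = true from Nat.ble_eq_true_of_le hac, hco a hak c hcl] at hp
  simp only [Bool.not_true, Bool.false_or] at hp
  obtain ⟨e, hee, heq⟩ := List.any_eq_true.mp hp
  rw [Bool.and_eq_true] at heq
  have e1 := Nat.eq_of_beq_eq_true heq.1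
  have e2 := Nat.eq_of_beq_eq_true heq.2
  have hpb := List.all_eq_true.mp pair_ok e hee
  rw [pairB, Bool.and_eq_true, Bool.and_eq_true, e1, e2] at hpb
  obtain ⟨h5, hm2, hcnt⟩ := hpb
  have hF3 := fixed_card_le hm2 F hFlt hFx (fun m hm j hj => by
    rcases List.mem_cons.mp hj with rfl | hj
    · exact hfix _ hak m hm
    · rw [List.mem_singleton.mp hj]; exact hfix _ hcl m hm)
  rw [Nat.eq_of_beq_eq_true h5] at hF3
  have hK3 : K.card ≤ 31 := by
    have hsub : K ⊆ insert 0 (invL.filter fun m => commB a m && commB c m).toFinset := by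
      intro m hm
      rcases eq_or_ne m 0 with rfl | hm0
      · exact Finset.mem_insert_self _ _
      · refine Finset.mem_insert_of_mem (List.mem_toFinset.mpr (List.mem_filter.mpr ⟨(hinv m hm hm0).1, ?_⟩))
        rw [hco a hak m hm, hco c hcl m hm]; rfl
    refine le_trans (Finset.card_le_card hsub) (le_trans (Finset.card_insert_le _ _) ?_)
    have h30 := Nat.le_of_ble_eq_true hcnt
    rw [List.countP_eq_length_filter] at h30
    have := List.toFinset_card_le (invL.filter fun m => commB a m && commB c m)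
    omega
  have : K.card * F.card ≤ 31 * F.card := Nat.mul_le_mul_right _ hK3
  omega

theorem unique_elementary (T : Sylow 2 G) :
    (∀ A : Subgroup G, A ≤ T → Cfsg.IsElementaryAbelian 2 A → Nat.card A ≤ 2 ^ 11) ∧
      ∃ B : Subgroup G, B ≤ T ∧ (B.subgroupOf T).Normal ∧ Cfsg.IsElementaryAbelian 2 B ∧ Nat.card B = 2 ^ 11 ∧
        ∀ A : Subgroup G, A ≤ T → Cfsg.IsElementaryAbelian 2 A → Nat.card A = 2 ^ 11 → A = B := by
  haveI : Finite G := CfsgLib.CosetEnum.Fi23.finite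
  haveI : Fact (Nat.Prime 2) := ⟨Nat.prime_two⟩
  obtain ⟨w, hw⟩ := MulAction.exists_smul_eq G (IsPGroup.toSylow (IsPGroup.of_card P18_spec.1) P18_not_dvd) T
  set c := (MulAut.conj w).toMonoidHom with hc
  have hcinj : Function.Injective c := (MulAut.conj w).injective
  have hT : (T : Subgroup G) = P18.map c := by rw [← hw]; rfl
  have hback : ∀ A : Subgroup G, A ≤ T → Cfsg.IsElementaryAbelian 2 A →
      (A.comap c ≤ P18 ∧ Cfsg.IsElementaryAbelian 2 (A.comap c) ∧ Nat.card (A.comap c) = Nat.card A ∧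
        (A.comap c).map c = A) := by
    intro A hA he
    have hmap : (A.comap c).map c = A := Subgroup.map_comap_eq_self_of_surjective (MulAut.conj w).surjective A
    refine ⟨fun x hx => ?_, ⟨⟨⟨fun x y => Subtype.ext (hcinj ?_)⟩⟩, fun x hx => hcinj ?_⟩, ?_, hmap⟩
    · have := hA (Subgroup.mem_comap.mp hx)
      rw [hT] at this
      exact (Subgroup.mem_map_iff_mem hcinj).mp this
    · simp only [Subgroup.coe_mul, map_mul]
      exact congrArg Subtype.val (he.1.1.1 (⟨_, x.2⟩ : A) ⟨_, y.2⟩)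
    · rw [map_pow, map_one]; exact he.2 _ hx
    · conv_rhs => rw [← hmap]
      rw [Subgroup.card_map_of_injective hcinj]
  have hEP : E11 ≤ P18 := E11_le 7
  refine ⟨fun A hA he => ?_, E11.map c, hT ▸ Subgroup.map_mono hEP, ?_, ?_, ?_, fun A hA he hcard => ?_⟩
  · obtain ⟨h1, h2, h3, -⟩ := hback A hA he
    rcases bound _ h1 h2 with h | h
    · rw [← h3, ← card_E11]; exact Subgroup.card_le_of_le h
    · omega
  · refine ⟨fun x hx y => ?_⟩
    rw [Subgroup.mem_subgroupOf, Subgroup.mem_map] at hx ⊢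
    obtain ⟨e, ⟨n, hn, rfl⟩, hex⟩ := hx
    obtain ⟨q, hq, hqy⟩ := Subgroup.mem_map.mp (hT ▸ y.2 : (y : G) ∈ P18.map c)
    obtain ⟨k, hk, m, hm, rfl⟩ := P18_spec.2 q hq
    refine ⟨psi (act k n), psi_mem (act_lt hk n), ?_⟩
    rw [← act_conj hk n m, map_mul, map_mul, map_inv, hqy, hex]
    rfl
  · refine ⟨⟨⟨?_⟩⟩, ?_⟩
    · rintro ⟨_, x, hx, rfl⟩ ⟨_, y, hy, rfl⟩
      apply Subtype.ext
      show c x * c y = c y * c x
      rw [← map_mul, ← map_mul]
      exact congrArg (c ·) (congrArg Subtype.val (E11_elementary.1.1.1 (⟨x, hx⟩ : E11) ⟨y, hy⟩))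
    · rintro _ ⟨x, hx, rfl⟩
      rw [← map_pow, E11_elementary.2 x hx, map_one]
  · rw [Subgroup.card_map_of_injective hcinj, card_E11]
  · obtain ⟨h1, h2, h3, h4⟩ := hback A hA he
    rcases bound _ h1 h2 with h | h
    · rw [← h4, Subgroup.eq_of_le_of_card_ge h (by rw [card_E11, h3, hcard])]
    · omega

end CfsgLib.Fi23Sylow
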