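import Cfsg.Agent.Lib.Fi23Sylow.Abelian

/-!
The seven words extend the elementary abelian group to a subgroup of order `2 ^ 18`.
-/

set_option autoImplicit false

namespace CfsgLib.Fi23Sylow

open CfsgLib.CosetEnum
open CfsgLib.CosetEnum.Fi23 (table π)

local notation "G" => Cfsg.Spor.Fi23

/-- A normalising element. -/
noncomputable def v (j : ℕ) : G := val (vw j)

theorem vs_data {j i : ℕ} (hj : j < 7) (hi : i < 23) :
    pimg (2 ^ j) i < 23 ∧ app (vw j) (pt i) = pt (pimg (2 ^ j) i) := by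
  have h := Bool.and_eq_true_iff.mp (all_range (all_range vs_perm hj) hi)
  exact ⟨Nat.le_of_ble_eq_true h.1, Nat.eq_of_beq_eq_true h.2⟩

theorem perm_data {k i : ℕ} (hk : k < 128) (hi : i < 23) : pimg k i < 23 ∧ pimg k i = pcomp 7 k i := by
  have h := Bool.and_eq_true_iff.mp (all_range (all_range perm_comp hk) hi)
  exact ⟨Nat.le_of_ble_eq_true h.1, Nat.eq_of_beq_eq_true h.2⟩

theorem app_uW : ∀ j, j ≤ 7 → ∀ k i, i < 23 → pcomp j k i < 23 ∧ app (uW j k) (pt i) = pt (pcomp j k i)
  | 0, _, k, i, hi => ⟨hi, by rw [uW, pcomp]; rfl⟩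
  | j + 1, hj, k, i, hi => by
    rw [uW, pcomp, app_append]
    split
    · rw [(vs_data (by omega) hi).2]
      exact app_uW j (by omega) k _ (vs_data (by omega) hi).1
    · exact app_uW j (by omega) k i hi

theorem u_pt {k i : ℕ} (hk : k < 128) (hi : i < 23) :
    π (val (uW 7 k)) (ptF i hi) = ptF (pimg k i) (perm_data hk hi).1 := by
  apply Fin.ext
  rw [pi_val _ (uW_good 7 k)]
  show app (uW 7 k) (pt i) = pt (pimg k i)
  rw [(app_uW 7 le_rfl k i hi).2, (perm_data hk hi).2]

/-- The element with number `k` and coordinates `n`. -/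
noncomputable def elt (k n : ℕ) : G := val (uW 7 k) * psi n

theorem elt_pt {k i : ℕ} (n : ℕ) (hk : k < 128) (hi : i < 23) :
    π (elt k n) (ptF i hi) = ptF (pimg k i) (perm_data hk hi).1 := by
  rw [elt, map_mul, Equiv.Perm.mul_apply, psi_fix n hi, u_pt hk hi]

theorem repack_congr {k l : ℕ} (h : ∀ i < 23, pimg k i = pimg l i) : ∀ r, r ≤ 23 → repack k r = repack l r
  | 0, _ => rfl
  | r + 1, hr => by rw [repack, repack, repack_congr h r (by omega), h r (by omega)]

theorem num_eq {k l : ℕ} (hk : k < 128) (hl : l < 128) (h : ∀ i < 23, pimg k i = pimg l i) : k = l := by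
  have h1 := repack_congr h 23 le_rfl
  rw [Nat.eq_of_beq_eq_true (all_range perm_packed hk), Nat.eq_of_beq_eq_true (all_range perm_packed hl)] at h1
  have h2 := all_range (all_range perm_distinct hk) hl
  rw [Bool.or_eq_true] at h2
  rcases h2 with h2 | h2
  · exact Nat.eq_of_beq_eq_true h2
  · rw [h1] at h2; simp at h2

theorem num_eq_of_pt {k l : ℕ} {w : G} (hk : k < 128) (hl : l < 128)
    (h1 : ∀ i (hi : i < 23), π w (ptF i hi) = ptF (pimg k i) (perm_data hk hi).1)
    (h2 : ∀ i (hi : i < 23), π w (ptF i hi) = ptF (pimg l i) (perm_data hl hi).1) : k = l :=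
  num_eq hk hl fun i hi =>
    pt_inj (perm_data hk hi).1 (perm_data hl hi).1 (congrArg Fin.val ((h1 i hi).symm.trans (h2 i hi)))

theorem elt_inj {k l m n : ℕ} (hk : k < 128) (hl : l < 128) (hm : m < 2 ^ 11) (hn : n < 2 ^ 11)
    (h : elt k m = elt l n) : k = l ∧ m = n := by
  have e : k = l := num_eq_of_pt hk hl (fun i hi => elt_pt m hk hi) (fun i hi => h ▸ elt_pt n hl hi)
  subst e
  exact ⟨rfl, psi_inj hm hn (mul_left_cancel h)⟩

/-- The group generated by the elementary abelian group and the first `j` words. -/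
noncomputable def GJ : ℕ → Subgroup G
  | 0 => E11
  | j + 1 => GJ j ⊔ Subgroup.zpowers (v j)

theorem E11_le : ∀ j, E11 ≤ GJ j
  | 0 => le_refl _
  | j + 1 => le_trans (E11_le j) le_sup_left

theorem v_mem : ∀ j i, i < j → v i ∈ GJ j
  | 0, i, h => absurd h (by omega)
  | j + 1, i, h => by
    rcases Nat.lt_succ_iff_lt_or_eq.mp h with h | rfl
    · exact (le_sup_left : GJ j ≤ GJ (j + 1)) (v_mem j i h)
    · exact (le_sup_right : Subgroup.zpowers (v i) ≤ GJ (i + 1)) (Subgroup.mem_zpowers _)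

theorem uW_mem : ∀ j k, val (uW j k) ∈ GJ j
  | 0, k => by rw [uW, val_nil]; exact one_mem _
  | j + 1, k => by
    rw [uW, val_append]
    refine mul_mem ((le_sup_left : GJ j ≤ GJ (j + 1)) (uW_mem j k)) ?_
    split
    · exact v_mem (j + 1) j (by omega)
    · rw [val_nil]; exact one_mem _

theorem uW_small {j k : ℕ} (hk : k < 2 ^ j) : ∀ d, uW (j + d) k = uW j k
  | 0 => rfl
  | d + 1 => by
    show uW (j + d + 1) k = _
    rw [uW, uW_small hk d, Nat.testBit_lt_two_pow (lt_of_lt_of_le hk (Nat.pow_le_pow_right (by omega) (by omega)))]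
    simp

theorem dec_mem {j i : ℕ} (hj : j < 7) (hi : i ≤ j) :
    val (if i < j then vw j ++ (vw i ++ (vw j).reverse) else vw j ++ vw j) ∈ GJ j := by
  have h := all_range (all_range dec_ok hj) (show i < j + 1 by omega)
  rw [Bool.and_eq_true, Bool.and_eq_true] at h
  obtain ⟨⟨h1, h2⟩, h3⟩ := h
  have hk := Nat.le_of_ble_eq_true h1
  have hg : ∀ x ∈ (if i < j then vw j ++ (vw i ++ (vw j).reverse) else vw j ++ vw j), x < 16 := by
    split
    · exact good_append (vw_good j) (good_append (vw_good i) (good_reverse (vw_good j)))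
    · exact good_append (vw_good j) (vw_good j)
  rw [val_eq_of_agree hg (good_append (uW_good _ _) (psiW_good _ _)) h3, val_append]
  refine mul_mem ?_ (E11_le j (psi_mem (Nat.le_of_ble_eq_true h2)))
  have e := uW_small hk (7 - j)
  rw [show j + (7 - j) = 7 by omega] at e
  rw [e]
  exact uW_mem _ _

theorem v_normalizes {j : ℕ} (hj : j < 7) : ∀ r, r ≤ j → ∀ x ∈ GJ r, v j * x * (v j)⁻¹ ∈ GJ j := by
  intro r hr
  have hcomap : GJ r ≤ (GJ j).comap (MulAut.conj (v j)).toMonoidHom := by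
    induction r with
    | zero =>
      rintro _ ⟨n, hn, rfl⟩
      rw [Subgroup.mem_comap]
      show v j * psi n * (v j)⁻¹ ∈ GJ j
      rw [conj_psi (w := v j) (p := pimg (2 ^ j)) (fun i hi => (vs_data hj hi).1)
        (fun i hi => Fin.ext (by rw [v, pi_val _ (vw_good j)]; exact (vs_data hj hi).2)) n]
      exact E11_le j (psi_mem (comb_lt _ 11 (fun t ht => code_lt (vs_data hj (bas_lt23 ht)).1) n))
    | succ r ih =>
      refine sup_le (ih (by omega)) ?_
      rw [Subgroup.zpowers_le, Subgroup.mem_comap]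
      show v j * v r * (v j)⁻¹ ∈ GJ j
      have h := dec_mem hj (show r ≤ j by omega)
      rw [if_pos (show r < j by omega), val_append, val_append, val_reverse _ (vw_good j), ← mul_assoc] at h
      exact h
  intro x hx
  exact Subgroup.mem_comap.mp (hcomap hx)

theorem card_sup_le [Finite G] (K : Subgroup G) (w : G) (hn : ∀ x ∈ K, w * x * w⁻¹ ∈ K) (hw : w * w ∈ K) :
    Nat.card (K ⊔ Subgroup.zpowers w : Subgroup G) ≤ 2 * Nat.card K := by
  have hwi : ∀ x ∈ K, w⁻¹ * x * w ∈ K := by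
    intro x hx
    have := mul_mem (mul_mem (inv_mem hw) (hn x hx)) hw
    simpa [mul_assoc] using this
  let D : Subgroup G :=
    { carrier := {x | x ∈ K ∨ x * w⁻¹ ∈ K}
      one_mem' := Or.inl (one_mem _)
      mul_mem' := by
        rintro a c (ha | ha) (hc | hc)
        · exact Or.inl (mul_mem ha hc)
        · exact Or.inr (by rw [mul_assoc]; exact mul_mem ha hc)
        · refine Or.inr ?_
          have := mul_mem ha (hn c hc)
          simpa [mul_assoc] using this
        · refine Or.inl ?_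
          have := mul_mem (mul_mem ha (hn _ hc)) hw
          simpa [mul_assoc] using this
      inv_mem' := by
        rintro a (ha | ha)
        · exact Or.inl (inv_mem ha)
        · refine Or.inr ?_
          have := mul_mem (hwi _ (inv_mem ha)) (inv_mem hw)
          simpa [mul_assoc] using this }
  have hle : K ⊔ Subgroup.zpowers w ≤ D :=
    sup_le (fun x hx => Or.inl hx) (Subgroup.zpowers_le.mpr (Or.inr (by simp)))
  refine le_trans (Subgroup.card_le_of_le hle) ?_
  have hs : Function.Surjective (fun p : Bool × K => if p.1 then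
      (⟨(p.2 : G) * w, Or.inr (by simp)⟩ : D) else ⟨(p.2 : G), Or.inl p.2.2⟩) := by
    rintro ⟨x, hx | hx⟩
    · exact ⟨(false, ⟨x, hx⟩), rfl⟩
    · exact ⟨(true, ⟨_, hx⟩), Subtype.ext (by simp)⟩
  refine le_trans (Nat.card_le_card_of_surjective _ hs) ?_
  rw [Nat.card_prod, Nat.card_eq_fintype_card, Fintype.card_bool]

theorem card_GJ_le [Finite G] : ∀ j, j ≤ 7 → Nat.card (GJ j) ≤ 2 ^ (11 + j)
  | 0, _ => le_of_eq card_E11
  | j + 1, hj => by
    have h := dec_mem (show j < 7 by omega) (le_refl j)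
    rw [if_neg (lt_irrefl j), val_append] at h
    refine le_trans (card_sup_le (GJ j) (v j) (v_normalizes (by omega) j le_rfl) h) ?_
    have := card_GJ_le j (by omega)
    rw [show 11 + (j + 1) = 11 + j + 1 by omega, pow_succ]
    omega

/-- The Sylow 2-subgroup. -/
noncomputable def P18 : Subgroup G := GJ 7

theorem elt_mem {k n : ℕ} (hn : n < 2 ^ 11) : elt k n ∈ P18 := mul_mem (uW_mem 7 k) (E11_le 7 (psi_mem hn))

theorem P18_spec : Nat.card P18 = 2 ^ 18 ∧ ∀ x ∈ P18, ∃ k < 128, ∃ n < 2 ^ 11, elt k n = x := by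
  haveI : Finite G := CfsgLib.CosetEnum.Fi23.finite
  let f : Fin 128 × Fin (2 ^ 11) → P18 := fun p => ⟨elt p.1 p.2, elt_mem p.2.2⟩
  have hf : Function.Injective f := by
    intro p q h
    obtain ⟨h1, h2⟩ := elt_inj p.1.2 q.1.2 p.2.2 q.2.2 (congrArg Subtype.val h)
    exact Prod.ext (Fin.ext h1) (Fin.ext h2)
  have hc : Nat.card (Fin 128 × Fin (2 ^ 11)) = 2 ^ 18 := by
    rw [Nat.card_prod, Nat.card_fin, Nat.card_fin]; norm_num
  have h1 := Nat.card_le_card_of_injective f hf
  rw [hc] at h1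
  have h2 : Nat.card P18 ≤ 2 ^ 18 := card_GJ_le 7 le_rfl
  refine ⟨le_antisymm h2 h1, fun x hx => ?_⟩
  have hb := hf.bijective_of_nat_card_le (by rw [hc]; exact h2)
  obtain ⟨p, hp⟩ := hb.2 ⟨x, hx⟩
  exact ⟨p.1, p.1.2, p.2, p.2.2, congrArg Subtype.val hp⟩

theorem P18_not_dvd : ¬ 2 ∣ P18.index := by
  haveI : Finite G := CfsgLib.CosetEnum.Fi23.finite
  have h := P18.card_mul_index
  rw [P18_spec.1, CfsgLib.CosetEnum.Fi23.card_group] at h
  intro hd
  obtain ⟨c, hc⟩ := hd
  rw [hc] at h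
  have : 2 ^ 19 ∣ 4089470473293004800 := ⟨c, by rw [← h]; ring⟩
  norm_num at this

end CfsgLib.Fi23Sylow
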